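import Groth.Agent.BranchVar.FlatGeneric
import Groth.Agent.Duality.PnStalk
import Groth.Agent.Agf.SmoothRed
import Groth.Agent.PicAux.ProjBundlePic
import Groth.Agent.Flatmor4.FlatDedekind
import Groth.Agent.Ega4Algebra1.RegularLocal
import Groth.Agent.Calg4.SmoothDescPoint
import Groth.Agent.Flatmor4.FlatBirational

/-!
# Dimension theory of `P^N × C` for a curve `C`
-/

set_option autoImplicit false
universe u

open CategoryTheory CategoryTheory.Limits AlgebraicGeometry Groth.Variety2

namespace Groth.BranchVar.Slice

variable {k : Type u} [Field k] (N : ℕ) {C : Scheme.{u}} (g : C ⟶ Spec (CommRingCat.of k))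

instance geometricallyIntegral_toSpec_field : GeometricallyIntegral (CohB1.ProjSpace.toSpec N k) :=
  MorphismProperty.of_isPullback (PnCoh.isPullback_toInt N k) (Groth.PicAux.ProjBundlePic.geometricallyIntegral_toSpec N)

instance smooth_toSpec_field : Smooth (CohB1.ProjSpace.toSpec N k) := Duality.Pn.smooth_toSpec N k

/-- The product of projective space and the curve, as a scheme over the field. -/
noncomputable abbrev toField : pullback (CohB1.ProjSpace.toSpec N k) g ⟶ Spec (CommRingCat.of k) :=
  pullback.snd (CohB1.ProjSpace.toSpec N k) g ≫ g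

theorem isIntegral_prod [Smooth g] [IsIntegral C] :
    IsIntegral (pullback (CohB1.ProjSpace.toSpec N k) g) := by
  have : IsLocallyNoetherian C := LocallyOfFiniteType.isLocallyNoetherian g
  infer_instance

theorem height_genericPoint_projSpace [IrreducibleSpace ↥(CohB1.ProjSpace N k)] :
    Order.height (genericPoint (CohB1.ProjSpace N k)) = N :=
  WithBot.coe_injective ((Dim.dim_eq_height_genericPoint).symm.trans PSpace.dim_projSpace)

variable [IsAlgClosed k] [Smooth g] [IsIntegral C]

theorem height_genericPoint_curve (hdim : topologicalKrullDim C = 1) :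
    Order.height (genericPoint C) = 1 :=
  WithBot.coe_injective ((Dim.dim_eq_height_genericPoint).symm.trans hdim)

theorem height_prod_le [IsIntegral (pullback (CohB1.ProjSpace.toSpec N k) g)]
    (hdim : topologicalKrullDim C = 1) (z : ↥(pullback (CohB1.ProjSpace.toSpec N k) g)) :
    Order.height z ≤ N + 1 := by
  refine (Order.height_mono (Scheme.le_iff_specializes.2 (genericPoint_specializes z))).trans ?_
  have : IsLocallyNoetherian C := LocallyOfFiniteType.isLocallyNoetherian g
  have : IsIntegral (CohB1.ProjSpace N k) :=
    GeometricallyIntegral.isIntegral_of_subsingleton (CohB1.ProjSpace.toSpec N k)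
  obtain ⟨c₀, -, hc₀⟩ := Dim.exists_isClosed_singleton_mem g (T := Set.univ)
    isClosed_univ.isLocallyClosed ⟨genericPoint C, trivial⟩
  let cp := (pointEquivClosedPoint g).symm ⟨c₀, hc₀⟩
  have hcp : cp.1 (IsLocalRing.closedPoint k) = c₀ :=
    congrArg Subtype.val ((pointEquivClosedPoint g).apply_symm_apply ⟨c₀, hc₀⟩)
  let t : CohB1.ProjSpace N k ⟶ pullback (CohB1.ProjSpace.toSpec N k) g :=
    pullback.lift (𝟙 _) (CohB1.ProjSpace.toSpec N k ≫ cp.1)
      (by rw [Category.id_comp, Category.assoc, cp.2, Category.comp_id])
  have hsq : IsPullback t (CohB1.ProjSpace.toSpec N k) (pullback.snd (CohB1.ProjSpace.toSpec N k) g) cp.1 := by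
    refine IsPullback.of_right ?_ (pullback.lift_snd _ _ _)
      (IsPullback.of_hasPullback (CohB1.ProjSpace.toSpec N k) g)
    rw [pullback.lift_fst, cp.2]
    exact IsPullback.of_horiz_isIso ⟨by rw [Category.id_comp, Category.comp_id]⟩
  let η := genericPoint ↥(CohB1.ProjSpace N k)
  let S := pullback (CohB1.ProjSpace.toSpec N k) g
  have htf : t ≫ toField N g = CohB1.ProjSpace.toSpec N k := by
    rw [toField, ← Category.assoc, pullback.lift_snd, Category.assoc, cp.2, Category.comp_id]
  have hx : Order.height (t η) ≤ N :=
    (Dim.height_image_le (CohB1.ProjSpace.toSpec N k) (toField N g) t htf η).trans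
      (height_genericPoint_projSpace N).le
  have hgx : pullback.snd (CohB1.ProjSpace.toSpec N k) g (t η) = c₀ := by
    rw [← Scheme.Hom.comp_apply, pullback.lift_snd, Scheme.Hom.comp_apply, ← hcp]
    exact congrArg _ (Subsingleton.elim _ _)
  have key := Dim.height_add_le_of_maximal (toField N g) g (pullback.snd (CohB1.ProjSpace.toSpec N k) g)
    rfl (ξ := genericPoint S) (x := t η) (genericPoint_specializes _) (by
      intro z _ hz2 hz3
      obtain ⟨y, rfl⟩ : z ∈ Set.range t := by
        have h1 : z ∈ pullback.snd (CohB1.ProjSpace.toSpec N k) g ⁻¹' Set.range cp.1 :=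
          ⟨IsLocalRing.closedPoint k, hcp.trans (hgx.symm.trans hz3.symm)⟩
        rw [← Scheme.Pullback.range_fst] at h1
        obtain ⟨w, rfl⟩ := h1
        exact ⟨hsq.isoPullback.inv w, by rw [← Scheme.Hom.comp_apply, hsq.isoPullback_inv_fst]⟩
      refine (Specializes.antisymm hz2 ?_).eq
      exact (genericPoint_specializes y).map t.continuous)
  rw [hgx, (Dim.height_eq_zero_iff (X := C) c₀).2 hc₀, add_zero] at key
  refine key.trans (add_le_add hx ?_)
  exact (Order.height_mono (Scheme.le_iff_specializes.2 (genericPoint_specializes _))).trans (height_genericPoint_curve hdim).le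

theorem eq_genericPoint_of_le_height [IsIntegral (pullback (CohB1.ProjSpace.toSpec N k) g)]
    (hdim : topologicalKrullDim C = 1) (z : ↥(pullback (CohB1.ProjSpace.toSpec N k) g))
    (hz : (N : ℕ∞) + 1 ≤ Order.height z) : z = genericPoint _ := by
  by_contra hne
  have hlt := Dim.height_toNat_lt (toField N g) (Dim.lt_iff.2 ⟨genericPoint_specializes z, hne⟩)
  exact not_lt_of_ge ((height_prod_le N g hdim _).trans hz) hlt

/-- Points over the generic point of projective space have principal local rings. -/
theorem isPrincipalIdealRing_stalk [IsIntegral (pullback (CohB1.ProjSpace.toSpec N k) g)]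
    [IsIntegral (CohB1.ProjSpace N k)] (hdim : topologicalKrullDim C = 1)
    (z : ↥(pullback (CohB1.ProjSpace.toSpec N k) g))
    (hz : pullback.fst (CohB1.ProjSpace.toSpec N k) g z = genericPoint _) :
    IsPrincipalIdealRing ((pullback (CohB1.ProjSpace.toSpec N k) g).presheaf.stalk z) := by
  let S := pullback (CohB1.ProjSpace.toSpec N k) g
  have h1 : (N : ℕ∞) ≤ Order.height z := by
    rw [← height_genericPoint_projSpace (k := k) N, ← hz]
    exact Dim.height_image_le (toField N g) (CohB1.ProjSpace.toSpec N k)
      (pullback.fst (CohB1.ProjSpace.toSpec N k) g) pullback.condition z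
  have h2 : Order.coheight z ≤ 1 := by
    have h3 := Dim.coheight_add_height (toField N g) z
    have h4 := height_prod_le N g hdim (genericPoint S)
    rw [← h3] at h4
    have h5 : Order.coheight z + N ≤ 1 + N := ((add_le_add le_rfl h1).trans h4).trans (add_comm _ _).le
    exact (WithTop.add_le_add_iff_right (WithTop.natCast_ne_top N)).1 h5
  have hd : ringKrullDim (S.presheaf.stalk z) ≤ 1 := by
    rw [ringKrullDim_stalk_eq_coheight]
    exact_mod_cast h2
  have : Smooth (toField N g) := inferInstance
  let _ : Field ((Spec (CommRingCat.of k)).presheaf.stalk (toField N g z)) :=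
    (Variety2.isField_stalk (Subsingleton.elim (α := PrimeSpectrum k) _ _)).toField
  have : IsRegularLocalRing ((Spec (CommRingCat.of k)).presheaf.stalk (toField N g z)) := inferInstance
  have hreg := Agf.RegularPoints.isRegularLocalRing_stalk_of_smooth (toField N g) z
  have : IsDomain (S.presheaf.stalk z) := Ega4Algebra1.isDomain_of_isRegularLocalRing _
  have := Flatmor4.isBezout_of_regular_dim_le_one hd
  have : IsLocallyNoetherian S := LocallyOfFiniteType.isLocallyNoetherian (toField N g)
  infer_instance

/-- Maximal points of a finite cover whose composite to the curve is flat with equidimensional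
generic fibre lie over the generic point. -/
theorem apply_eq_genericPoint [IsIntegral (pullback (CohB1.ProjSpace.toSpec N k) g)]
    (hdim : topologicalKrullDim C = 1) {X : Scheme.{u}}
    (f : X ⟶ pullback (CohB1.ProjSpace.toSpec N k) g) [IsFinite f]
    [Flat (f ≫ pullback.snd (CohB1.ProjSpace.toSpec N k) g)]
    (hfib : ∀ Z ∈ irreducibleComponents
        (↥((f ≫ pullback.snd (CohB1.ProjSpace.toSpec N k) g).fiber (genericPoint C)) : Type u),
      topologicalKrullDim (↥Z : Type u) = N)
    (ξ : X) (hξ : ∀ z, z ⤳ ξ → z = ξ) : f ξ = genericPoint _ := by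
  let g' := f ≫ pullback.snd (CohB1.ProjSpace.toSpec N k) g
  have hη : g' ξ = genericPoint C := apply_eq_genericPoint_of_maximal g' ξ hξ
  obtain ⟨w, hw⟩ : ξ ∈ Set.range (g'.fiberι (genericPoint C)) := by
    rw [g'.range_fiberι]; exact hη
  have hmax : ∀ v, v ⤳ w → v = w := fun v hv =>
    (g'.fiberι (genericPoint C)).isEmbedding.injective
      ((hξ _ (hw ▸ hv.map (g'.fiberι (genericPoint C)).continuous)).trans hw.symm)
  have hcomp : closure {w} ∈ irreducibleComponents ↥(g'.fiber (genericPoint C)) := by
    refine ⟨isIrreducible_singleton.closure, fun T hT hsub => ?_⟩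
    have hTc : IsClosed (closure T) := isClosed_closure
    obtain ⟨v, hv⟩ := QuasiSober.sober hT.closure hTc
    have hvw : v ⤳ w := hv.specializes (subset_closure (hsub (subset_closure rfl)))
    rw [hmax v hvw] at hv
    exact subset_closure.trans hv.def.ge
  let fX : X ⟶ Spec (CommRingCat.of k) := f ≫ toField N g
  have : LocallyOfFiniteType g' := inferInstance
  have hh : Order.height w = N := by
    have h1 := hfib _ hcomp
    rw [Dim.dim_closure_singleton] at h1
    exact WithBot.coe_injective h1
  have hheight := Dim.height_fiber_add fX g g' (Category.assoc _ _ _) (genericPoint C) w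
  rw [hw, hh, height_genericPoint_curve hdim] at hheight
  apply eq_genericPoint_of_le_height N g hdim
  rw [hheight]
  have hdisc : Order.height (f.asFiber ξ) = 0 := by
    refine Order.height_eq_zero.2 fun v hv => ?_
    exact (Specializes.eq (x := f.asFiber ξ) (y := v) hv).le
  have h2 := Dim.height_fiber_add fX (toField N g) f rfl (f ξ) (f.asFiber ξ)
  rw [hdisc, zero_add, Scheme.Hom.fiberι_asFiber] at h2
  exact h2.ge

/-- The stalks at points over the generic point agree with those of the generic fibre. -/
theorem isReduced_stalk_of_fibre {X C : Scheme.{u}} (g : X ⟶ C) [IsIntegral C]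
    [IsReduced (g.fiber (genericPoint C))] (w : X) (hw : g w = genericPoint C) :
    _root_.IsReduced (X.presheaf.stalk w) := by
  have hfld : IsField (C.presheaf.stalk (genericPoint C)) := Field.toIsField C.functionField
  have : IsIso (C.residue (genericPoint C)) := by
    refine (ConcreteCategory.isIso_iff_bijective _).2 ⟨?_, C.residue_surjective _⟩
    let := hfld.toField
    exact (C.residue (genericPoint C)).hom.injective
  have : Flat (C.fromSpecResidueField (genericPoint C)) := by
    have := Calg4.flat_fromSpecStalk C (genericPoint C)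
    exact inferInstanceAs (Flat (Spec.map (C.residue (genericPoint C)) ≫ C.fromSpecStalk _))
  have : Flat (g.fiberι (genericPoint C)) := MorphismProperty.pullback_fst _ _ inferInstance
  obtain ⟨v, rfl⟩ : w ∈ Set.range (g.fiberι (genericPoint C)) := by rw [g.range_fiberι]; exact hw
  have := Flatmor4.isIso_stalkMap_of_flat_preimmersion (g.fiberι (genericPoint C)) v
  exact isReduced_of_injective ((g.fiberι (genericPoint C)).stalkMap v).hom
    ((ConcreteCategory.isIso_iff_bijective _).1 inferInstance).1

end Groth.BranchVar.Slice
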