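import Mathlib

/-!
# Reducedness and flatness of finite covers from the generic point
-/

set_option autoImplicit false
universe u

open CategoryTheory AlgebraicGeometry

namespace Groth.BranchVar.Slice

/-- A flat scheme over an integral scheme with reduced stalks over the generic point is reduced. -/
theorem isReduced_of_flat_of_generic {X C : Scheme.{u}} (g : X ⟶ C) [Flat g] [IsIntegral C]
    (h : ∀ w : X, g w = genericPoint C → _root_.IsReduced (X.presheaf.stalk w)) : IsReduced X := by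
  refine @isReduced_of_isReduced_stalk X fun x => ?_
  obtain ⟨U, hU, hgU, -⟩ := exists_isAffineOpen_mem_and_subset (x := g x) (U := ⊤) trivial
  obtain ⟨V, hV, hxV, hVU⟩ := exists_isAffineOpen_mem_and_subset (x := x) (U := g ⁻¹ᵁ U) hgU
  have : Nonempty U := ⟨⟨g x, hgU⟩⟩
  have hVU' : V ≤ g ⁻¹ᵁ U := hVU
  have hflat : (g.appLE U V hVU').hom.Flat := Flat.flat_appLE g hU hV hVU'
  algebraize [(g.appLE U V hVU').hom]
  have hB : _root_.IsReduced Γ(X, V) := by
    refine ⟨fun b hb => ?_⟩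
    by_contra hb0
    let M : Submonoid Γ(X, V) := (nonZeroDivisors Γ(C, U)).map (algebraMap Γ(C, U) Γ(X, V))
    let I : Ideal Γ(X, V) := LinearMap.ker (LinearMap.toSpanSingleton Γ(X, V) Γ(X, V) b)
    have hdisj : Disjoint (I : Set Γ(X, V)) (M : Set Γ(X, V)) := by
      rw [Set.disjoint_left]
      rintro _ hI ⟨a, ha, rfl⟩
      have h0 : algebraMap Γ(C, U) Γ(X, V) a * b = 0 := hI
      rw [← Algebra.smul_def] at h0
      have hreg : IsSMulRegular Γ(X, V) a :=
        Module.Flat.isSMulRegular_of_nonZeroDivisors ha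
      exact hb0 (hreg (show a • b = a • (0 : Γ(X, V)) by rw [h0, smul_zero]))
    obtain ⟨P, hP, hIP, hPM⟩ := Ideal.exists_le_prime_disjoint I M hdisj
    let w : X := hV.fromSpec ⟨P, hP⟩
    have hwV : w ∈ V := hV.range_fromSpec.le ⟨⟨P, hP⟩, rfl⟩
    have hbot : Ideal.comap (algebraMap Γ(C, U) Γ(X, V)) P = ⊥ := by
      refine eq_bot_iff.2 fun a ha => ?_
      by_contra ha0
      exact Set.disjoint_left.1 hPM (show algebraMap Γ(C, U) Γ(X, V) a ∈ (P : Set Γ(X, V)) from ha)
        ⟨a, mem_nonZeroDivisors_of_ne_zero ha0, rfl⟩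
    have hgw : g w = genericPoint C := by
      have h1 : (Spec.map (g.appLE U V hVU') ≫ hU.fromSpec) ⟨P, hP⟩ = g w := by
        rw [IsAffineOpen.SpecMap_appLE_fromSpec g hU hV hVU']
        rfl
      rw [← h1]
      show hU.fromSpec ⟨Ideal.comap (algebraMap Γ(C, U) Γ(X, V)) P, _⟩ = _
      have h2 : (genericPoint C) ∈ U :=
        (genericPoint_spec C).mem_open_set_iff U.2 |>.2 ⟨g x, Set.mem_univ _, hgU⟩
      have h3 := hU.primeIdealOf_genericPoint
      rw [genericPoint_eq_bot_of_affine] at h3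
      refine Eq.trans ?_ (hU.fromSpec_primeIdealOf ⟨genericPoint C, h2⟩)
      rw [h3]
      congr 1
      exact PrimeSpectrum.ext hbot
    let := (X.presheaf.germ V w hwV).hom.toAlgebra
    have hloc : IsLocalization.AtPrime (X.presheaf.stalk w) (hV.primeIdealOf ⟨w, hwV⟩).asIdeal :=
      hV.isLocalization_stalk ⟨w, hwV⟩
    have hprime : hV.primeIdealOf ⟨w, hwV⟩ = ⟨P, hP⟩ :=
      hV.fromSpec.injective (hV.fromSpec_primeIdealOf _)
    have := h w hgw
    have hnil : IsNilpotent (algebraMap Γ(X, V) (X.presheaf.stalk w) b) := hb.map _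
    obtain ⟨⟨s, hs⟩, hsb⟩ := (IsLocalization.map_eq_zero_iff
      (hV.primeIdealOf ⟨w, hwV⟩).asIdeal.primeCompl (X.presheaf.stalk w) b).1 hnil.eq_zero
    rw [hprime] at hs
    exact hs (hIP hsb)
  let := (X.presheaf.germ V x hxV).hom.toAlgebra
  have : IsLocalization.AtPrime (X.presheaf.stalk x) (hV.primeIdealOf ⟨x, hxV⟩).asIdeal :=
    hV.isLocalization_stalk ⟨x, hxV⟩
  exact isReduced_localizationPreserves (hV.primeIdealOf ⟨x, hxV⟩).asIdeal.primeCompl (X.presheaf.stalk x) hB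

/-- Maximal points of a flat scheme over an integral scheme lie over the generic point. -/
theorem apply_eq_genericPoint_of_maximal {X C : Scheme.{u}} (g : X ⟶ C) [Flat g] [IsIntegral C]
    (ξ : X) (hξ : ∀ z, z ⤳ ξ → z = ξ) : g ξ = genericPoint C := by
  let φ := g.stalkMap ξ
  algebraize [φ.hom]
  have : Module.Flat (C.presheaf.stalk (g ξ)) (X.presheaf.stalk ξ) := Flat.stalkMap g ξ
  have : IsLocalHom (algebraMap (C.presheaf.stalk (g ξ)) (X.presheaf.stalk ξ)) :=
    inferInstanceAs (IsLocalHom φ.hom)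
  have : Module.FaithfullyFlat (C.presheaf.stalk (g ξ)) (X.presheaf.stalk ξ) :=
    Module.FaithfullyFlat.of_flat_of_isLocalHom
  have hfield : IsLocalRing.maximalIdeal (C.presheaf.stalk (g ξ)) = ⊥ := by
    refine eq_bot_iff.2 fun a ha => ?_
    have hnil : algebraMap (C.presheaf.stalk (g ξ)) (X.presheaf.stalk ξ) a ∈
        nilradical (X.presheaf.stalk ξ) := by
      rw [nilradical_eq_sInf, Submodule.mem_sInf]
      intro J hJ
      have h1 : X.fromSpecStalk ξ ⟨J, hJ⟩ ⤳ ξ := by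
        have : X.fromSpecStalk ξ ⟨J, hJ⟩ ∈ Set.range (X.fromSpecStalk ξ) := ⟨_, rfl⟩
        rwa [Scheme.range_fromSpecStalk] at this
      have h2 : (⟨J, hJ⟩ : PrimeSpectrum (X.presheaf.stalk ξ)) = IsLocalRing.closedPoint _ :=
        (X.fromSpecStalk ξ).injective ((hξ _ h1).trans Scheme.fromSpecStalk_closedPoint.symm)
      have h3 : J = IsLocalRing.maximalIdeal _ := congrArg PrimeSpectrum.asIdeal h2
      rw [h3]
      exact (IsLocalRing.mem_maximalIdeal _).2 fun hu =>
        (IsLocalRing.mem_maximalIdeal _).1 ha (isUnit_of_map_unit _ _ hu)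
    obtain ⟨m, hm⟩ := mem_nilradical.1 hnil
    rw [← map_pow] at hm
    exact IsNilpotent.eq_zero
      ⟨m, FaithfulSMul.algebraMap_injective (C.presheaf.stalk (g ξ)) (X.presheaf.stalk ξ)
        (hm.trans (map_zero _).symm)⟩
  obtain ⟨p, hp⟩ : genericPoint C ∈ Set.range (C.fromSpecStalk (g ξ)) := by
    rw [Scheme.range_fromSpecStalk]; exact genericPoint_specializes _
  rw [← hp]
  have : p = IsLocalRing.closedPoint _ := PrimeSpectrum.ext
    (le_antisymm (IsLocalRing.le_maximalIdeal p.isPrime.ne_top) (hfield.trans_le bot_le))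
  rw [this, Scheme.fromSpecStalk_closedPoint]

/-- A finite torsion-free module over a principal localization is free there; hence a reduced finite
cover dominating an integral base is flat over a neighbourhood of each such point. -/
theorem exists_nhd_flat_stalkMap {X S : Scheme.{u}} (f : X ⟶ S) [IsFinite f] [IsIntegral S]
    [IsLocallyNoetherian S] [IsReduced X]
    (hdom : ∀ ξ : X, (∀ z, z ⤳ ξ → z = ξ) → f ξ = genericPoint S) (z : S)
    [IsPrincipalIdealRing (S.presheaf.stalk z)] :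
    ∃ U : S.Opens, z ∈ U ∧ ∀ x : X, f x ∈ U → (f.stalkMap x).hom.Flat := by
  obtain ⟨U, hU, hzU, -⟩ := exists_isAffineOpen_mem_and_subset (x := z) (U := ⊤) trivial
  have : Nonempty U := ⟨⟨z, hzU⟩⟩
  have hV : IsAffineOpen (f ⁻¹ᵁ U) := hU.preimage f
  have hfin := IsFinite.finite_app (f := f) U hU
  algebraize [(f.app U).hom]
  let A : Type u := Γ(S, U)
  let B : Type u := Γ(X, f ⁻¹ᵁ U)
  have : IsNoetherianRing Γ(S, U) := IsLocallyNoetherian.component_noetherian ⟨U, hU⟩
  have : Module.FinitePresentation Γ(S, U) Γ(X, f ⁻¹ᵁ U) := Module.finitePresentation_of_finite _ _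
  have htf : ∀ (a : Γ(S, U)) (b : Γ(X, f ⁻¹ᵁ U)), a • b = 0 → a = 0 ∨ b = 0 := by
    intro a b hab
    by_contra h
    push Not at h
    obtain ⟨P, hP, hb⟩ : ∃ P ∈ minimalPrimes Γ(X, f ⁻¹ᵁ U), b ∉ P := by
      by_contra hall
      push Not at hall
      refine h.2 (IsReduced.eq_zero b ?_)
      rw [← mem_nilradical, nilradical, Ideal.radical_eq_sInf, Submodule.mem_sInf]
      rintro J ⟨-, hJ⟩
      obtain ⟨Q, hQ, hQJ⟩ := Ideal.exists_minimalPrimes_le (bot_le (a := J))
      exact hQJ (hall Q hQ)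
    have : P.IsPrime := hP.1.1
    rw [Algebra.smul_def] at hab
    have haP : algebraMap Γ(S, U) Γ(X, f ⁻¹ᵁ U) a ∈ P :=
      ((Ideal.IsPrime.mem_or_mem ‹_›) (hab ▸ P.zero_mem)).resolve_right hb
    let ξ : X := hV.fromSpec ⟨P, hP.1.1⟩
    have hξV : ξ ∈ f ⁻¹ᵁ U := hV.range_fromSpec.le ⟨_, rfl⟩
    have hmax : ∀ y, y ⤳ ξ → y = ξ := by
      intro y hy
      have hyV : y ∈ f ⁻¹ᵁ U := hy.mem_open (f ⁻¹ᵁ U).2 hξV
      obtain ⟨q, rfl⟩ : y ∈ Set.range hV.fromSpec := by rw [hV.range_fromSpec]; exact hyV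
      have h1 : q ⤳ (⟨P, hP.1.1⟩ : PrimeSpectrum _) := hV.fromSpec.isOpenEmbedding.isInducing.specializes_iff.1 hy
      have h2 : q.asIdeal ≤ P := (PrimeSpectrum.le_iff_specializes q ⟨P, hP.1.1⟩).2 h1
      have h3 : P ≤ q.asIdeal := hP.2 ⟨q.isPrime, bot_le⟩ h2
      exact congrArg _ (PrimeSpectrum.ext (le_antisymm h2 h3))
    have h2 := hdom ξ hmax
    have h4 : (Spec.map (f.app U) ≫ hU.fromSpec) ⟨P, hP.1.1⟩ = f ξ := by
      rw [← Scheme.Hom.appLE_eq_app, IsAffineOpen.SpecMap_appLE_fromSpec f hU hV le_rfl]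
      rfl
    have h5 : hU.primeIdealOf ⟨f ξ, hξV⟩ = ⟨Ideal.comap (algebraMap Γ(S, U) Γ(X, f ⁻¹ᵁ U)) P, inferInstance⟩ :=
      hU.fromSpec.injective ((hU.fromSpec_primeIdealOf ⟨f ξ, hξV⟩).trans h4.symm)
    have h6 := hU.primeIdealOf_genericPoint
    rw [genericPoint_eq_bot_of_affine] at h6
    have h7 : hU.primeIdealOf ⟨f ξ, hξV⟩ = ⟨⊥, Ideal.isPrime_bot⟩ := by
      refine Eq.trans ?_ h6
      congr 1
      exact Subtype.ext h2
    have h8 : Ideal.comap (algebraMap Γ(S, U) Γ(X, f ⁻¹ᵁ U)) P = ⊥ :=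
      congrArg PrimeSpectrum.asIdeal (h5.symm.trans h7)
    have : a ∈ (⊥ : Ideal Γ(S, U)) := h8 ▸ haP
    exact h.1 this
  let p := hU.primeIdealOf ⟨z, hzU⟩
  let := (S.presheaf.germ U z hzU).hom.toAlgebra
  have hloc : IsLocalization.AtPrime (S.presheaf.stalk z) p.asIdeal := hU.isLocalization_stalk ⟨z, hzU⟩
  have : IsPrincipalIdealRing (Localization.AtPrime p.asIdeal) :=
    IsPrincipalIdealRing.of_surjective
      (IsLocalization.algEquiv p.asIdeal.primeCompl (S.presheaf.stalk z) (Localization.AtPrime p.asIdeal)).toRingEquiv.toRingHom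
      (IsLocalization.algEquiv p.asIdeal.primeCompl (S.presheaf.stalk z) (Localization.AtPrime p.asIdeal)).surjective
  have hp : p ∈ Module.freeLocus Γ(S, U) Γ(X, f ⁻¹ᵁ U) := by
    rw [Module.mem_freeLocus]
    have : Module.IsTorsionFree (Localization.AtPrime p.asIdeal)
        (LocalizedModule p.asIdeal.primeCompl Γ(X, f ⁻¹ᵁ U)) := by
      refine .of_smul_eq_zero fun r m hrm => ?_
      obtain ⟨a, t, rfl⟩ := IsLocalization.exists_mk'_eq p.asIdeal.primeCompl r
      induction m using LocalizedModule.induction_on with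
      | _ b s =>
        rw [← Localization.mk_eq_mk', LocalizedModule.mk_smul_mk, ← LocalizedModule.zero_mk 1,
          LocalizedModule.mk_eq] at hrm
        obtain ⟨c, hc⟩ := hrm
        simp only [smul_zero, one_smul, Submonoid.smul_def] at hc
        rcases htf _ b (by rw [← mul_smul] at hc; exact hc) with h0 | h0
        · left
          have : a = 0 := (mul_eq_zero.1 h0).resolve_left fun hc0 =>
            c.2 (show (c : Γ(S, U)) ∈ p.asIdeal by rw [hc0]; exact Ideal.zero_mem _)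
          rw [this, IsLocalization.mk'_zero]
        · right
          rw [h0, LocalizedModule.zero_mk]
    exact Module.free_of_finite_type_torsion_free'
  obtain ⟨_, ⟨_, ⟨r, rfl⟩, rfl⟩, hpr, hsub⟩ :=
    PrimeSpectrum.isBasis_basic_opens.exists_subset_of_mem_open hp Module.isOpen_freeLocus
  refine ⟨S.basicOpen r, ?_, fun x hx => ?_⟩
  · have h1 : hU.primeIdealOf ⟨z, hzU⟩ ∈ hU.fromSpec ⁻¹ᵁ S.basicOpen r := by
      rw [hU.fromSpec_preimage_basicOpen]
      exact hpr
    exact (congrArg (· ∈ S.basicOpen r) (hU.fromSpec_primeIdealOf ⟨z, hzU⟩)).mp h1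
  have hxV : x ∈ f ⁻¹ᵁ U := S.basicOpen_le r hx
  let q := hV.primeIdealOf ⟨x, hxV⟩
  let w := hU.primeIdealOf ⟨f x, hxV⟩
  have hqw : Ideal.comap (algebraMap Γ(S, U) Γ(X, f ⁻¹ᵁ U)) q.asIdeal = w.asIdeal := by
    have h1 := IsAffineOpen.comap_primeIdealOf_appLE U hU (f ⁻¹ᵁ U) hV le_rfl hxV
    simp only [Scheme.Hom.appLE_eq_app] at h1
    exact congrArg PrimeSpectrum.asIdeal h1
  have hrw : r ∉ w.asIdeal := by
    have h1 : w ∈ hU.fromSpec ⁻¹ᵁ S.basicOpen r := by
      show hU.fromSpec w ∈ S.basicOpen r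
      rw [hU.fromSpec_primeIdealOf]
      exact hx
    rw [hU.fromSpec_preimage_basicOpen] at h1
    exact h1
  have : q.asIdeal.LiesOver w.asIdeal := ⟨hqw.symm⟩
  let := Localization.AtPrime.algebraOfLiesOver w.asIdeal q.asIdeal
  let Br := Localization (Algebra.algebraMapSubmonoid Γ(X, f ⁻¹ᵁ U) (Submonoid.powers r))
  have : Module.Flat Γ(S, U) Br := by
    have : Module.Projective (Localization.Away r) (LocalizedModule.Away r Γ(X, f ⁻¹ᵁ U)) :=
      Module.basicOpen_subset_freeLocus_iff.1 hsub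
    have : Module.Flat Γ(S, U) (LocalizedModule.Away r Γ(X, f ⁻¹ᵁ U)) :=
      (Module.flat_iff_of_isLocalization (Localization.Away r) (Submonoid.powers r) _).1 inferInstance
    have hlm : IsLocalizedModule (Submonoid.powers r)
        (IsScalarTower.toAlgHom Γ(S, U) Γ(X, f ⁻¹ᵁ U) Br).toLinearMap :=
      inferInstance
    exact Module.Flat.of_linearEquiv
      (IsLocalizedModule.iso (Submonoid.powers r)
        (IsScalarTower.toAlgHom Γ(S, U) Γ(X, f ⁻¹ᵁ U) Br).toLinearMap).symm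
  have hunit : ∀ y : Algebra.algebraMapSubmonoid Γ(X, f ⁻¹ᵁ U) (Submonoid.powers r),
      IsUnit (algebraMap Γ(X, f ⁻¹ᵁ U) (Localization.AtPrime q.asIdeal) y) := by
    rintro ⟨_, _, ⟨n, rfl⟩, rfl⟩
    refine IsLocalization.map_units (Localization.AtPrime q.asIdeal) (⟨_, fun hm => ?_⟩ : q.asIdeal.primeCompl)
    rw [map_pow] at hm
    exact hrw (hqw ▸ (q.isPrime.mem_of_pow_mem n hm :))
  let χ : Br →+* Localization.AtPrime q.asIdeal := IsLocalization.lift hunit
  letI : Algebra Br (Localization.AtPrime q.asIdeal) := χ.toAlgebra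
  have htow : IsScalarTower Γ(X, f ⁻¹ᵁ U) Br (Localization.AtPrime q.asIdeal) :=
    IsScalarTower.of_algebraMap_eq fun b => (IsLocalization.lift_eq hunit b).symm
  have : IsScalarTower Γ(S, U) Br (Localization.AtPrime q.asIdeal) :=
    IsScalarTower.of_algebraMap_eq fun a => by
      rw [IsScalarTower.algebraMap_apply Γ(S, U) Γ(X, f ⁻¹ᵁ U) Br, ← IsScalarTower.algebraMap_apply,
        ← IsScalarTower.algebraMap_apply]
  have : Module.Flat Br (Localization.AtPrime q.asIdeal) := by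
    exact (Module.flat_iff_of_isLocalization Br (Algebra.algebraMapSubmonoid Γ(X, f ⁻¹ᵁ U) (Submonoid.powers r)) _).2
      (IsLocalization.flat _ q.asIdeal.primeCompl)
  have : Module.Flat Γ(S, U) (Localization.AtPrime q.asIdeal) := Module.Flat.trans Γ(S, U) Br _
  have hflat : (algebraMap (Localization.AtPrime w.asIdeal) (Localization.AtPrime q.asIdeal)).Flat :=
    RingHom.flat_algebraMap_iff.2
      ((Module.flat_iff_of_isLocalization (Localization.AtPrime w.asIdeal) w.asIdeal.primeCompl _).2 inferInstance)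
  have key := RingHom.Flat.respectsIso.arrow_mk_iso_iff
    (IsAffineOpen.arrowStalkMapIso f U hU (f ⁻¹ᵁ U) hV le_rfl hxV)
  refine key.2 ?_
  have he : q.asIdeal.comap (algebraMap Γ(S, U) Γ(X, f ⁻¹ᵁ U)) = w.asIdeal := hqw
  have hmap : Localization.localRingHom w.asIdeal q.asIdeal (algebraMap Γ(S, U) Γ(X, f ⁻¹ᵁ U)) he.symm =
      algebraMap (Localization.AtPrime w.asIdeal) (Localization.AtPrime q.asIdeal) := by
    apply IsLocalization.ringHom_ext (R := Γ(S, U)) w.asIdeal.primeCompl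
    refine RingHom.ext fun a => ?_
    rw [RingHom.comp_apply, RingHom.comp_apply, Localization.localRingHom_to_map,
      ← IsScalarTower.algebraMap_apply, ← IsScalarTower.algebraMap_apply]
  rw [← hmap] at hflat
  have hcongr : ∀ (φ : Γ(S, U) →+* Γ(X, f ⁻¹ᵁ U)) (h : w.asIdeal = q.asIdeal.comap φ),
      φ = algebraMap Γ(S, U) Γ(X, f ⁻¹ᵁ U) →
      (Localization.localRingHom w.asIdeal q.asIdeal φ h).Flat := by
    rintro φ h rfl
    exact hflat
  exact hcongr _ (congrArg PrimeSpectrum.asIdeal (IsAffineOpen.comap_primeIdealOf_appLE U hU (f ⁻¹ᵁ U) hV le_rfl hxV)).symm (congrArg CommRingCat.Hom.hom (Scheme.Hom.appLE_eq_app f))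

end Groth.BranchVar.Slice
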