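import Groth.Agent.BranchVar.SliceDim

/-!
# Restricting a morphism over an open and base changing along a section
-/

set_option autoImplicit false
universe u

open CategoryTheory CategoryTheory.Limits AlgebraicGeometry Groth.Variety2

namespace Groth.BranchVar.Slice

theorem charZero_functionField {k : Type u} [Field k] [CharZero k] {S : Scheme.{u}} [IsIntegral S]
    (fS : S ⟶ Spec (CommRingCat.of k)) : CharZero S.functionField :=
  charZero_of_injective_ringHom
    (((S.presheaf.germ ⊤ (genericPoint S) trivial).hom.comp fS.appTop.hom).comp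
      (Scheme.ΓSpecIso (CommRingCat.of k)).inv.hom).injective

/-- In characteristic zero a dominating maximal point of a reduced scheme is a smooth point. -/
theorem mem_smoothLocus_of_maximal {X S : Scheme.{u}} [IsIntegral S] [IsLocallyNoetherian X]
    [IsReduced X] [CharZero S.functionField] (f : X ⟶ S) [LocallyOfFinitePresentation f] (x : X)
    (hx : ∀ z, z ⤳ x → z = x) (hfx : f x = genericPoint S) : x ∈ f.smoothLocus := by
  obtain ⟨V, hV, hxV, -⟩ := exists_isAffineOpen_mem_and_subset (x := x) (U := ⊤) trivial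
  have : IsNoetherianRing Γ(X, V) := IsLocallyNoetherian.component_noetherian ⟨V, hV⟩
  have : _root_.IsReduced Γ(X, V) := inferInstance
  let p := hV.primeIdealOf ⟨x, hxV⟩
  have hpmin : p.asIdeal ∈ minimalPrimes Γ(X, V) := by
    refine ⟨⟨p.isPrime, bot_le⟩, fun J hJ hle => ?_⟩
    have h1 : hV.fromSpec ⟨J, hJ.1⟩ ⤳ x := by
      exact (((PrimeSpectrum.le_iff_specializes (⟨J, hJ.1⟩ : PrimeSpectrum Γ(X, V)) p).1 hle).map
        hV.fromSpec.continuous).trans (Specializes.of_eq (hV.fromSpec_primeIdealOf ⟨x, hxV⟩))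
    have h2 := hV.fromSpec.injective ((hx _ h1).trans (hV.fromSpec_primeIdealOf ⟨x, hxV⟩).symm)
    exact (congrArg PrimeSpectrum.asIdeal h2).ge
  have hfinmin : (minimalPrimes Γ(X, V)).Finite := minimalPrimes.finite_of_isNoetherianRing _
  classical
  let Zs : Set (PrimeSpectrum Γ(X, V)) :=
    ⋃ q ∈ minimalPrimes Γ(X, V) \ {p.asIdeal}, PrimeSpectrum.zeroLocus (q : Set Γ(X, V))
  have hZc : IsClosed Zs :=
    hfinmin.sdiff.isClosed_biUnion fun q _ => PrimeSpectrum.isClosed_zeroLocus _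
  let W : X.Opens := ⟨hV.fromSpec '' Zsᶜ, hV.fromSpec.isOpenEmbedding.isOpenMap _ hZc.isOpen_compl⟩
  have hxW : x ∈ W := by
    refine ⟨p, fun hp => ?_, hV.fromSpec_primeIdealOf _⟩
    obtain ⟨q, hq, hqp⟩ := Set.mem_iUnion₂.1 hp
    exact hq.2 (le_antisymm hqp (hpmin.2 ⟨hq.1.1.1, bot_le⟩ hqp))
  have hgen : ∀ z ∈ W, x ⤳ z := by
    rintro _ ⟨q, hq, rfl⟩
    obtain ⟨m, hm, hmq⟩ := Ideal.exists_minimalPrimes_le (bot_le (a := q.asIdeal))
    have : m = p.asIdeal := by
      by_contra hne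
      exact hq (Set.mem_iUnion₂.2 ⟨m, ⟨hm, hne⟩, hmq⟩)
    exact (Specializes.of_eq (hV.fromSpec_primeIdealOf ⟨x, hxV⟩).symm).trans
      (((PrimeSpectrum.le_iff_specializes p q).1 (show p.asIdeal ≤ q.asIdeal from (this.symm.trans_le hmq))).map hV.fromSpec.continuous)
  have hirr : IrreducibleSpace W.toScheme := by
    refine (isIrreducible_iff_irreducibleSpace).1 ⟨⟨x, hxW⟩, ?_⟩
    intro U₁ U₂ hU₁ hU₂ ⟨a, ha, ha1⟩ ⟨b, hb, hb2⟩
    exact ⟨x, hxW, (hgen a ha).mem_open hU₁ ha1, (hgen b hb).mem_open hU₂ hb2⟩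
  have : Nonempty W.toScheme := ⟨⟨x, hxW⟩⟩
  have : IsIntegral W.toScheme := isIntegral_of_irreducibleSpace_of_isReduced _
  have hgW : W.ι (genericPoint W.toScheme) = x :=
    hx _ ((genericPoint_specializes (α := ↥W.toScheme) ⟨x, hxW⟩).map W.ι.continuous)
  have h := Variety2.genericPoint_mem_smoothLocus (W.ι ≫ f)
    (by rw [Scheme.Hom.comp_apply, hgW, hfx])
  rw [← Scheme.Hom.preimage_smoothLocus_eq] at h
  rw [← hgW]
  exact h

theorem flat_morphismRestrict {X S : Scheme.{u}} (f : X ⟶ S) (W : S.Opens)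
    (h : ∀ x : X, f x ∈ W → (f.stalkMap x).hom.Flat) : Flat (f ∣_ W) :=
  (Flat.iff_flat_stalkMap _).2 fun x =>
    (RingHom.Flat.respectsIso.arrow_mk_iso_iff (morphismRestrictStalkMap f W x)).2 (h x.1 x.2)

theorem smooth_morphismRestrict {X S : Scheme.{u}} (f : X ⟶ S) [LocallyOfFinitePresentation f]
    (W : S.Opens) (h : ∀ x : X, f x ∈ W → x ∈ f.smoothLocus) : Smooth (f ∣_ W) := by
  have h1 : Smooth ((f ∣_ W) ≫ W.ι) := by
    rw [morphismRestrict_ι]
    exact Variety2.smooth_of_le_smoothLocus f (f ⁻¹ᵁ W) fun x hx => h x hx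
  exact MorphismProperty.of_postcomp (W := @Smooth) (W' := @IsOpenImmersion) (f ∣_ W) W.ι inferInstance h1

/-- Base change along a morphism landing in an open over which the property holds. -/
theorem pullback_snd_of_restrict (P : MorphismProperty Scheme.{u}) [P.IsStableUnderBaseChange]
    {X S T : Scheme.{u}} (f : X ⟶ S) (W : S.Opens) (hP : P (f ∣_ W)) (t : T ⟶ S)
    (ht : Set.range t ⊆ (W : Set S)) : P (pullback.snd f t) := by
  have hrange : Set.range t ⊆ Set.range W.ι := by rwa [Scheme.Opens.range_ι]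
  let t' := IsOpenImmersion.lift W.ι t hrange
  have ht' : t' ≫ W.ι = t := IsOpenImmersion.lift_fac _ _ _
  have hsq := (isPullback_morphismRestrict f W).flip
  let l := hsq.lift (pullback.fst f t) (pullback.snd f t ≫ t')
    (by rw [Category.assoc, ht', pullback.condition])
  have hbig : IsPullback (l ≫ (f ⁻¹ᵁ W).ι) (pullback.snd f t) f (t' ≫ W.ι) := by
    rw [hsq.lift_fst, ht']
    exact IsPullback.of_hasPullback f t
  exact MorphismProperty.of_isPullback
    (IsPullback.of_right hbig (hsq.lift_snd _ _ _) hsq) hP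

theorem flat_pullback_of_stalkMap {X S T : Scheme.{u}} (f : X ⟶ S) (W : S.Opens)
    (h : ∀ x : X, f x ∈ W → (f.stalkMap x).hom.Flat) (t : T ⟶ S) (ht : Set.range t ⊆ (W : Set S)) :
    Flat (pullback.snd f t) :=
  pullback_snd_of_restrict @Flat f W (flat_morphismRestrict f W h) t ht

theorem isReduced_stalk_pullback {k : Type u} [Field k] {X C : Scheme.{u}} {N : ℕ}
    {g : C ⟶ Spec (CommRingCat.of k)} [Smooth g]
    (f : X ⟶ pullback (CohB1.ProjSpace.toSpec N k) g) [LocallyOfFinitePresentation f]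
    (W : (pullback (CohB1.ProjSpace.toSpec N k) g).Opens)
    (h : ∀ x : X, f x ∈ W → x ∈ f.smoothLocus) (s : C ⟶ pullback (CohB1.ProjSpace.toSpec N k) g)
    (_hs : s ≫ pullback.snd (CohB1.ProjSpace.toSpec N k) g = 𝟙 C)
    (w : ↥(pullback f s)) (hw : s (pullback.snd f s w) ∈ W) :
    _root_.IsReduced ((pullback f s).presheaf.stalk w) := by
  let q := pullback.snd f s
  let W' : C.Opens := s ⁻¹ᵁ W
  let Y' := pullback f (W'.ι ≫ s)
  have hsm : Smooth (pullback.snd f (W'.ι ≫ s)) := by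
    refine pullback_snd_of_restrict @Smooth f W (smooth_morphismRestrict f W h) _ ?_
    rintro _ ⟨c, rfl⟩
    exact c.2
  have : IsReduced Y' := Agf.isReduced_of_smooth (pullback.snd f (W'.ι ≫ s) ≫ W'.ι ≫ g)
  let j : Y' ⟶ pullback f s :=
    pullback.lift (pullback.fst _ _) (pullback.snd _ _ ≫ W'.ι) (by rw [pullback.condition, Category.assoc])
  have hj : IsPullback j (pullback.snd f (W'.ι ≫ s)) q W'.ι := by
    refine IsPullback.of_right ?_ (pullback.lift_snd _ _ _) (IsPullback.of_hasPullback f s)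
    rw [pullback.lift_fst]
    exact IsPullback.of_hasPullback f (W'.ι ≫ s)
  have : IsOpenImmersion j := MorphismProperty.of_isPullback hj.flip inferInstance
  obtain ⟨v, rfl⟩ : w ∈ Set.range j := by
    have h1 : w ∈ q ⁻¹' Set.range W'.ι := by
      rw [Scheme.Opens.range_ι]; exact hw
    rw [← Scheme.Pullback.range_fst] at h1
    obtain ⟨v, rfl⟩ := h1
    exact ⟨hj.isoPullback.inv v, by rw [← Scheme.Hom.comp_apply, hj.isoPullback_inv_fst]⟩
  exact isReduced_of_injective (j.stalkMap v).hom ((ConcreteCategory.isIso_iff_bijective _).1 inferInstance).1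

end Groth.BranchVar.Slice
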